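/-
Arithmetic for the element orders of projective unitary groups.
-/
import Mathlib

set_option autoImplicit false

namespace Cfsg.Agent.PGUOrder1

/-- `q^e - (-1)^e`. -/
def tor (q e : ℕ) : ℕ := if Odd e then q ^ e + 1 else q ^ e - 1

/-- `(q^e - (-1)^e) / (q + 1)`. -/
def torA (q e : ℕ) : ℕ := tor q e / (q + 1)

/-- The largest order of a unipotent element with three-dimensional blocks. -/
def three (p : ℕ) : ℕ := if p = 2 then 4 else p

variable {q : ℕ}

theorem succ_dvd_tor (q e : ℕ) : q + 1 ∣ tor q e := by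
  rw [tor]
  split
  · next h => simpa using h.nat_add_dvd_pow_add_pow q 1
  · next h =>
    obtain ⟨m, rfl⟩ := Nat.not_odd_iff_even.mp h
    rw [← two_mul, pow_mul]
    refine dvd_trans ?_ (by simpa using Nat.sub_dvd_pow_sub_pow (q ^ 2) 1 m)
    rw [show q ^ 2 - 1 = q ^ 2 - 1 ^ 2 by norm_num, Nat.sq_sub_sq]
    exact dvd_mul_right _ _

theorem torA_mul (q e : ℕ) : torA q e * (q + 1) = tor q e := Nat.div_mul_cancel (succ_dvd_tor q e)

theorem torA_le (hq : 2 ≤ q) {e : ℕ} (he : 1 ≤ e) : torA q e ≤ q ^ (e - 1) := by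
  refine Nat.le_of_mul_le_mul_right (c := q + 1) ?_ (by omega)
  rw [torA_mul, mul_add, mul_one, ← pow_succ, show e - 1 + 1 = e by omega, tor]
  have := Nat.one_le_pow (e - 1) q (by omega)
  split <;> omega

theorem tor_pos (hq : 2 ≤ q) {e : ℕ} (he : 1 ≤ e) : 0 < tor q e := by
  have := Nat.one_lt_pow (show e ≠ 0 by omega) hq
  rw [tor]; split <;> omega

theorem base_facts (hq : 2 ≤ q) {d : ℕ} (hd : 3 ≤ d) :
    q ^ (d - 2) + q ^ (d - 3) + 1 ≤ q ^ (d - 1) ∧ q + 2 ≤ q ^ (d - 1) ∧ q ^ (d - 2) * q = q ^ (d - 1) ∧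
      q ^ d = q ^ (d - 1) * q := by
  obtain ⟨j, rfl⟩ := Nat.exists_eq_add_of_le hd
  rw [show 3 + j - 2 = j + 1 by omega, show 3 + j - 3 = j by omega, show 3 + j - 1 = j + 2 by omega,
    show 3 + j = j + 3 by omega]
  have h0 : 1 ≤ q ^ j := Nat.one_le_pow _ _ (by omega)
  have hqq : q + 2 ≤ q * q := by nlinarith
  have h5 := Nat.mul_le_mul_left (q ^ j) hqq
  have h6 := Nat.mul_le_mul_right (q * q) h0
  refine ⟨?_, ?_, by ring, by ring⟩
  · rw [pow_add, pow_add, pow_one, sq]; linarith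
  · rw [pow_add, sq]; linarith

theorem pow_le_base (hq : 2 ≤ q) {d : ℕ} (hd : 3 ≤ d) {j : ℕ} (hj : j ≤ d - 2) : q ^ j ≤ q ^ (d - 1) - 1 := by
  have h1 := Nat.pow_lt_pow_right hq (show j < d - 1 by omega)
  omega

theorem succ_mul_le_base (hq : 2 ≤ q) {d : ℕ} (hd : 3 ≤ d) {j : ℕ} (hj : j ≤ d - 3) :
    (q + 1) * q ^ j ≤ q ^ (d - 1) - 1 := by
  have h1 := (base_facts hq hd).1
  have h2 : q ^ j ≤ q ^ (d - 3) := Nat.pow_le_pow_right (by omega) hj
  have h3 : q ^ (d - 3) * q = q ^ (d - 2) := by rw [← pow_succ]; congr 1; omega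
  have h4 : (q + 1) * q ^ j ≤ q ^ (d - 2) + q ^ (d - 3) := by nlinarith
  omega

theorem torA_single (hq : 2 ≤ q) {d : ℕ} (hd : 3 ≤ d) : torA q d ≤ q ^ (d - 1) - 1 := by
  refine Nat.le_of_mul_le_mul_right (c := q + 1) ?_ (by omega)
  rw [torA_mul]
  obtain ⟨-, h2, -, h4⟩ := base_facts hq hd
  have : tor q d ≤ q ^ d + 1 := by rw [tor]; split <;> omega
  zify [show 1 ≤ q ^ (d - 1) by omega] at *
  nlinarith

theorem le_two_pow_sub : ∀ {d : ℕ}, 4 ≤ d → d ≤ 2 ^ (d - 2)
  | d, h => by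
    obtain ⟨j, rfl⟩ := Nat.exists_eq_add_of_le h
    rw [show 4 + j - 2 = j + 2 by omega]
    induction j with
    | zero => norm_num
    | succ j ih => rw [pow_succ]; have := ih (by omega); omega

theorem clog_le {p d : ℕ} (hp : p.Prime) (hd : 4 ≤ d) : p ^ Nat.clog p d ≤ p ^ (d - 2) :=
  Nat.pow_le_pow_right hp.pos
    (Nat.clog_le_of_le_pow ((le_two_pow_sub hd).trans (Nat.pow_le_pow_left hp.two_le _)))

theorem clog_two {p : ℕ} (hp : p.Prime) : p ^ Nat.clog p 2 = p := by
  rw [le_antisymm (Nat.clog_le_of_le_pow (by simpa using hp.two_le)) (Nat.clog_pos hp.one_lt (by norm_num : 1 < 2)), pow_one]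

theorem clog_three {p : ℕ} (hp : p.Prime) : p ^ Nat.clog p 3 = three p := by
  rw [three]
  by_cases h2 : p = 2
  · subst h2
    have e : Nat.clog 2 3 = 2 := le_antisymm (Nat.clog_le_of_le_pow (by norm_num)) (Nat.lt_of_not_le fun h =>
      absurd ((Nat.le_pow_clog one_lt_two 3).trans (Nat.pow_le_pow_right two_pos h)) (by norm_num))
    rw [if_pos rfl, e]
    rfl
  · have h3 : 3 ≤ p := by have := hp.two_le; omega
    rw [if_neg h2, le_antisymm (Nat.clog_le_of_le_pow (by simpa using h3)) (Nat.clog_pos hp.one_lt (by norm_num)),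
      pow_one]

theorem three_le_sq {p : ℕ} (hp : p.Prime) (h : p ≤ q) : three p ≤ q ^ 2 := by
  have := hp.two_le
  rw [three]
  split <;> nlinarith

/-- Two orbits, all multiplicities one. -/
theorem two_orbits (hq : 2 ≤ q) {a b : ℕ} (ha : 1 ≤ a) (hb : 1 ≤ b) (hd : 3 ≤ a + b) :
    tor q a * torA q b ≤ q ^ (a + b - 1) - 1 ∨ (Even (a + b) ∧ tor q a * torA q b ≤ q ^ (a + b - 1) + 1) := by
  set d := a + b with hdd
  obtain ⟨-, h2, h3, h4⟩ := base_facts hq hd
  have h1 : 1 ≤ q ^ (d - 1) := by omega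
  have hmul : tor q a * torA q b * (q + 1) = tor q a * tor q b := by rw [mul_assoc, torA_mul]
  have hab : q ^ a * q ^ b = q ^ d := (pow_add q a b).symm
  have hA := Nat.one_le_pow a q (by omega)
  have hB := Nat.one_le_pow b q (by omega)
  have hsmall : ∀ x, x + 2 ≤ d - 1 → q ^ x + q ≤ q ^ (d - 1) := fun x hx => by
    have e : q ^ x * q ≤ q ^ (d - 2) := by rw [← pow_succ]; exact Nat.pow_le_pow_right (by omega) (by omega)
    have := Nat.one_le_pow x q (by omega)
    have e1 := Nat.mul_le_mul_left (q ^ (d - 2)) hq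
    have e2 := Nat.mul_le_mul_right q this
    have e3 := Nat.mul_le_mul_left (q ^ x) (show 1 ≤ q by omega)
    linarith
  have hq1 : q + 1 ≠ 0 := by omega
  rcases Nat.even_or_odd a with ea | ea <;> rcases Nat.even_or_odd b with eb | eb
  · left
    refine Nat.le_of_mul_le_mul_right (c := q + 1) ?_ (by omega)
    rw [hmul, tor, tor, if_neg (Nat.not_odd_iff_even.mpr ea), if_neg (Nat.not_odd_iff_even.mpr eb)]
    zify [hA, hB, h1] at *
    have z1 : (0 : ℤ) ≤ (q : ℤ) ^ a := by positivity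
    have z2 : (0 : ℤ) ≤ (q : ℤ) ^ b := by positivity
    linear_combination hab + h4 + h2 + z1 + z2
  · left
    by_cases h : b = 1
    · subst h
      rw [show torA q 1 = 1 by rw [torA, tor, if_pos odd_one, pow_one, Nat.div_self (by omega)], mul_one, tor,
        if_neg (Nat.not_odd_iff_even.mpr ea), show d - 1 = a by omega]
    · refine Nat.le_of_mul_le_mul_right (c := q + 1) ?_ (by omega)
      have := hsmall a (by obtain ⟨k, rfl⟩ := eb; omega)
      rw [hmul, tor, tor, if_neg (Nat.not_odd_iff_even.mpr ea), if_pos eb]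
      zify [hA, hB, h1] at *
      have z1 : (0 : ℤ) ≤ (q : ℤ) ^ a := by positivity
      have z2 : (0 : ℤ) ≤ (q : ℤ) ^ b := by positivity
      first
        | linear_combination hab + h4 + this + z1
        | linear_combination hab + h4 + this + z2
  · left
    by_cases h : a = 1
    · subst h
      rw [show tor q 1 = q + 1 by rw [tor, if_pos odd_one, pow_one], mul_comm, torA_mul, tor,
        if_neg (Nat.not_odd_iff_even.mpr eb), show d - 1 = b by omega]
    · refine Nat.le_of_mul_le_mul_right (c := q + 1) ?_ (by omega)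
      have := hsmall b (by obtain ⟨k, rfl⟩ := ea; omega)
      rw [hmul, tor, tor, if_pos ea, if_neg (Nat.not_odd_iff_even.mpr eb)]
      zify [hA, hB, h1] at *
      have z1 : (0 : ℤ) ≤ (q : ℤ) ^ a := by positivity
      have z2 : (0 : ℤ) ≤ (q : ℤ) ^ b := by positivity
      first
        | linear_combination hab + h4 + this + z1
        | linear_combination hab + h4 + this + z2
  · right
    refine ⟨ea.add_odd eb, ?_⟩
    by_cases h : a = 1
    · subst h
      rw [show tor q 1 = q + 1 by rw [tor, if_pos odd_one, pow_one], mul_comm, torA_mul, tor, if_pos eb,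
        show d - 1 = b by omega]
    by_cases h' : b = 1
    · subst h'
      rw [show torA q 1 = 1 by rw [torA, tor, if_pos odd_one, pow_one, Nat.div_self (by omega)], mul_one, tor,
        if_pos ea, show d - 1 = a by omega]
    refine Nat.le_of_mul_le_mul_right (c := q + 1) ?_ (by omega)
    have e1 := hsmall a (by obtain ⟨k, rfl⟩ := eb; omega)
    have e2 : q ^ a + q ^ b ≤ q ^ (d - 1) := by
      have x1 : q ^ a ≤ q ^ (d - 2) := Nat.pow_le_pow_right (by omega) (by omega)
      have x2 : q ^ b ≤ q ^ (d - 2) := Nat.pow_le_pow_right (by omega) (by omega)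
      nlinarith
    rw [hmul, tor, tor, if_pos ea, if_pos eb]
    nlinarith

/-- A repeated eigenvalue of norm one and one further orbit. -/
theorem repeated (hq : 2 ≤ q) {p K e : ℕ} (hp : p.Prime) (hpq : p ≤ q) (hK : 2 ≤ K) (he : 1 ≤ e) :
    tor q e * p ^ Nat.clog p K ≤ q ^ (K + e - 1) - 1 ∨ (Odd (K + e) ∧ tor q e * p ^ Nat.clog p K ≤ (q ^ (K + e - 2) + 1) * p) ∨
      (Even (K + e) ∧ tor q e * p ^ Nat.clog p K ≤ three p * (q ^ (K + e - 3) + 1)) := by
  have hB := Nat.one_le_pow e q (by omega)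
  have hp2 := hp.two_le
  rcases (show K = 2 ∨ K = 3 ∨ 4 ≤ K by omega) with rfl | rfl | hK4
  · rw [clog_two hp, show 2 + e - 2 = e by omega]
    by_cases ho : Odd e
    · exact Or.inr (Or.inl ⟨by obtain ⟨k, rfl⟩ := ho; exact ⟨k + 1, by omega⟩, le_of_eq (by rw [tor, if_pos ho])⟩)
    · left
      rw [tor, if_neg ho, show 2 + e - 1 = e + 1 by omega, pow_succ]
      have h6 : 1 ≤ q ^ e * q := Nat.one_le_iff_ne_zero.mpr (by positivity)
      have h7 := Nat.mul_le_mul (Nat.sub_le (q ^ e) 1) hpq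
      have h8 : (q ^ e - 1) * p + p = q ^ e * p := by rw [← Nat.succ_mul]; congr 1; omega
      have h9 := Nat.mul_le_mul_left (q ^ e) hpq
      omega
  · rw [clog_three hp, show 3 + e - 3 = e by omega]
    by_cases ho : Odd e
    · refine Or.inr (Or.inr ⟨?_, le_of_eq ?_⟩)
      · obtain ⟨k, rfl⟩ := ho; exact ⟨k + 2, by omega⟩
      · rw [tor, if_pos ho, mul_comm]
    · left
      have h3 := three_le_sq hp hpq
      rw [tor, if_neg ho, show 3 + e - 1 = e + 2 by omega, pow_add]
      have h4 : 1 ≤ q ^ e * q ^ 2 := Nat.one_le_iff_ne_zero.mpr (by positivity)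
      have h5 : 1 ≤ q ^ 2 := Nat.one_le_pow _ _ (by omega)
      have h7 := Nat.mul_le_mul_left (q ^ e - 1) h3
      have h8 : (q ^ e - 1) * q ^ 2 + q ^ 2 = q ^ e * q ^ 2 := by rw [← Nat.succ_mul]; congr 1; omega
      omega
  · left
    have h1 := (base_facts hq (d := K + e) (by omega)).1
    have hP : p ^ Nat.clog p K ≤ q ^ (K - 2) := (clog_le hp hK4).trans (Nat.pow_le_pow_left hpq _)
    have ht : tor q e ≤ q ^ e + 1 := by rw [tor]; split <;> omega
    have e1 : (q ^ e + 1) * q ^ (K - 2) = q ^ (K + e - 2) + q ^ (K - 2) := by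
      rw [add_mul, one_mul, ← pow_add, show e + (K - 2) = K + e - 2 by omega]
    have e2 : q ^ (K - 2) ≤ q ^ (K + e - 3) := Nat.pow_le_pow_right (by omega) (by omega)
    have e3 := Nat.mul_le_mul ht hP
    omega

end Cfsg.Agent.PGUOrder1
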