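/-
An upper bound for the projective order of a unitary matrix.
-/
import Cfsg.Agent.PGUOrder1.Arith
import Cfsg.Agent.ClassOrder1.Matrix
import Cfsg.Agent.PSU3Spec.Singer
import Cfsg.Agent.Lib.GLSemisimple.Unitary

set_option autoImplicit false

namespace Cfsg.Agent.PGUOrder1

open Polynomial Matrix

section Orbits

variable {K : Type*} [Field K] {q : ℕ}

/-- The map `x ↦ x^(-q)`. -/
def psi (q : ℕ) (x : K) : K := (x ^ q)⁻¹

theorem psi_iterate (x : K) (j : ℕ) : (psi q)^[j] x = if Odd j then (x ^ q ^ j)⁻¹ else x ^ q ^ j := by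
  induction j with
  | zero => simp
  | succ j ih =>
    rw [Function.iterate_succ_apply', ih, psi]
    by_cases h : Odd j
    · rw [if_pos h, if_neg (by simpa [Nat.odd_add_one] using h), inv_pow, inv_inv, ← pow_mul, ← pow_succ]
    · rw [if_neg h, if_pos (by simpa [Nat.odd_add_one] using h), ← pow_mul, ← pow_succ]

/-- A finite set stable under `x ↦ x^(-q)` contains orbits. -/
theorem exists_orbit [DecidableEq K] (hq : 2 ≤ q) (hinj : Function.Injective (psi q : K → K)) {R : Finset K}
    (h0 : ∀ x ∈ R, x ≠ 0) (hR : ∀ x ∈ R, psi q x ∈ R) {r : K} (hr : r ∈ R) :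
    ∃ O : Finset K, O ⊆ R ∧ r ∈ O ∧ (∀ x ∈ R \ O, psi q x ∈ R \ O) ∧ (∀ x ∈ O, x ^ tor q O.card = 1) ∧
      (∃ c : K, c ^ (q + 1) = 1 ∧ ∀ x ∈ O, x ^ torA q O.card = c) ∧
      (∀ f : K → ℕ, (∀ x ∈ R, f (psi q x) = f x) → ∀ x ∈ O, f x = f r) := by
  classical
  have hmem : ∀ j, (psi q)^[j] r ∈ R := by
    intro j
    induction j with
    | zero => exact hr
    | succ j ih => rw [Function.iterate_succ_apply']; exact hR _ ih
  have hex : ∃ j, 1 ≤ j ∧ (psi q)^[j] r = r := by
    obtain ⟨i, -, j, -, hne, hij⟩ := Finset.exists_ne_map_eq_of_card_lt_of_maps_to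
      (s := Finset.range (R.card + 1)) (t := R) (f := fun j => (psi q)^[j] r) (by simp) (fun j _ => hmem j)
    rcases lt_or_gt_of_ne hne with hlt | hlt
    · refine ⟨j - i, by omega, (hinj.iterate i) ?_⟩
      rw [← Function.iterate_add_apply, show i + (j - i) = j by omega]
      exact hij.symm
    · refine ⟨i - j, by omega, (hinj.iterate j) ?_⟩
      rw [← Function.iterate_add_apply, show j + (i - j) = i by omega]
      exact hij
  obtain ⟨he1, he⟩ := Nat.find_spec hex
  set e := Nat.find hex with hedef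
  set O := (Finset.range e).image fun j => (psi q)^[j] r with hO
  have hcard : O.card = e := by
    rw [hO, Finset.card_image_of_injOn, Finset.card_range]
    have key : ∀ i j, j < e → i ≤ j → (psi q)^[i] r = (psi q)^[j] r → i = j := by
      intro i j hj hij h
      by_contra hne
      refine Nat.find_min hex (show j - i < e by omega) ⟨by omega, (hinj.iterate i) ?_⟩
      rw [← Function.iterate_add_apply, show i + (j - i) = j by omega]
      exact h.symm
    intro i hi j hj h
    simp only [Finset.coe_range, Set.mem_Iio] at hi hj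
    rcases le_total i j with hle | hle
    · exact key i j hj hle h
    · exact (key j i hi hle h.symm).symm
  have hOR : O ⊆ R := fun x hx => by
    obtain ⟨j, -, rfl⟩ := Finset.mem_image.mp hx
    exact hmem j
  have hOimg : O.image (psi q) = O := by
    refine Finset.eq_of_subset_of_card_le ?_ (by rw [Finset.card_image_of_injective _ hinj])
    intro y hy
    obtain ⟨x, hx, rfl⟩ := Finset.mem_image.mp hy
    obtain ⟨j, hj, rfl⟩ := Finset.mem_image.mp hx
    rw [Finset.mem_range] at hj
    rw [← Function.iterate_succ_apply' (psi q)]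
    rcases (show j + 1 < e ∨ j + 1 = e by omega) with h | h
    · exact Finset.mem_image.mpr ⟨j + 1, Finset.mem_range.mpr h, rfl⟩
    · exact Finset.mem_image.mpr ⟨0, Finset.mem_range.mpr (by omega), by rw [show j.succ = e from h, he]; rfl⟩
  have hr0 := h0 r hr
  have hrtor : r ^ tor q e = 1 := by
    have h := (psi_iterate (q := q) r e).symm.trans he
    rw [tor]
    split
    · next ho =>
      rw [if_pos ho] at h
      rw [pow_succ]
      nth_rewrite 2 [← h]
      exact mul_inv_cancel₀ (pow_ne_zero _ hr0)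
    · next ho =>
      rw [if_neg ho] at h
      refine mul_right_cancel₀ hr0 ?_
      rw [one_mul, ← pow_succ, Nat.sub_add_cancel (Nat.one_le_pow _ _ (by omega))]
      exact h
  have hiter : ∀ j, ((psi q)^[j] r) ^ torA q e = r ^ torA q e := by
    intro j
    induction j with
    | zero => rfl
    | succ j ih =>
      rw [Function.iterate_succ_apply', psi, inv_pow, ← pow_mul, mul_comm, pow_mul, ih, ← pow_mul]
      refine inv_eq_of_mul_eq_one_left ?_
      rw [← pow_add, show torA q e + torA q e * q = torA q e * (q + 1) by ring, torA_mul, hrtor]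
  rw [← hcard] at hrtor hiter
  refine ⟨O, hOR, Finset.mem_image.mpr ⟨0, Finset.mem_range.mpr (by omega), rfl⟩, fun x hx => ?_, fun x hx => ?_,
    ⟨r ^ torA q O.card, by rw [← pow_mul, torA_mul, hrtor], fun x hx => ?_⟩, fun f hf x hx => ?_⟩
  · obtain ⟨hxR, hxO⟩ := Finset.mem_sdiff.mp hx
    refine Finset.mem_sdiff.mpr ⟨hR x hxR, fun h => hxO ?_⟩
    rw [← hOimg, Finset.mem_image] at h
    obtain ⟨y, hy, hyx⟩ := h
    rwa [← hinj hyx]
  · obtain ⟨j, -, rfl⟩ := Finset.mem_image.mp hx
    rw [← torA_mul, pow_mul, hiter, ← pow_mul, torA_mul, hrtor]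
  · obtain ⟨j, -, rfl⟩ := Finset.mem_image.mp hx
    exact hiter j
  · obtain ⟨j, -, rfl⟩ := Finset.mem_image.mp hx
    have hall : ∀ j, f ((psi q)^[j] r) = f r := by
      intro j
      induction j with
      | zero => rfl
      | succ j ih => rw [Function.iterate_succ_apply', hf _ (hmem j), ih]
    exact hall j

/-- The exponent of a stable set. -/
theorem exists_exp [DecidableEq K] (hq : 2 ≤ q) (hinj : Function.Injective (psi q : K → K)) (R : Finset K) :
    R.Nonempty → (∀ x ∈ R, x ≠ 0) → (∀ x ∈ R, psi q x ∈ R) →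
      ∃ N, 0 < N ∧ q + 1 ∣ N ∧ (∀ x ∈ R, x ^ N = 1) ∧ N ≤ (q + 1) * q ^ (R.card - 1) := by
  induction R using Finset.strongInduction with
  | _ R ih =>
    intro hne h0 hR
    obtain ⟨r, hr⟩ := hne
    obtain ⟨O, hOR, hrO, hst, hkill, -, -⟩ := exists_orbit hq hinj h0 hR hr
    have he : 1 ≤ O.card := Finset.card_pos.mpr ⟨r, hrO⟩
    have hc := Finset.card_sdiff_add_card_eq_card hOR
    rcases (R \ O).eq_empty_or_nonempty with hemp | hne'
    · have hOeq : O = R := le_antisymm hOR (Finset.sdiff_eq_empty_iff_subset.mp hemp)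
      subst hOeq
      refine ⟨tor q O.card, tor_pos hq he, succ_dvd_tor _ _, hkill, ?_⟩
      rw [← torA_mul, mul_comm]
      exact Nat.mul_le_mul_left _ (torA_le hq he)
    · obtain ⟨N, hN0, hNd, hNk, hNle⟩ := ih _ (Finset.sdiff_ssubset hOR ⟨r, hrO⟩) hne'
        (fun x hx => h0 x (Finset.mem_sdiff.mp hx).1) hst
      have hpos : 0 < torA q O.card := Nat.div_pos (Nat.le_of_dvd (tor_pos hq he) (succ_dvd_tor _ _)) (by omega)
      refine ⟨N * torA q O.card, Nat.mul_pos hN0 hpos, hNd.mul_right _, fun x hx => ?_, ?_⟩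
      · by_cases hxO : x ∈ O
        · obtain ⟨k, rfl⟩ := hNd
          rw [show (q + 1) * k * torA q O.card = torA q O.card * (q + 1) * k by ring, torA_mul, pow_mul, hkill x hxO, one_pow]
        · rw [pow_mul, hNk x (Finset.mem_sdiff.mpr ⟨hx, hxO⟩), one_pow]
      · have h1 : 1 ≤ (R \ O).card := Finset.card_pos.mpr hne'
        calc N * torA q O.card ≤ (q + 1) * q ^ ((R \ O).card - 1) * q ^ (O.card - 1) := Nat.mul_le_mul hNle (torA_le hq he)
          _ ≤ (q + 1) * q ^ (R.card - 1) := by
            rw [mul_assoc, ← pow_add]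
            exact Nat.mul_le_mul_left _ (Nat.pow_le_pow_right (by omega) (by omega))

end Orbits

variable {F : Type*} [Field F] [Fintype F] {q : ℕ}

/-- The values that an element order may take. -/
def Good (p q d n : ℕ) : Prop :=
  n ≤ q ^ (d - 1) - 1 ∨ (Even d ∧ n ≤ q ^ (d - 1) + 1) ∨ (Odd d ∧ n ≤ (q ^ (d - 2) + 1) * p) ∨
    (Even d ∧ n ≤ three p * (q ^ (d - 3) + 1))

/-- A unitary matrix has a scalar power with a good exponent. -/
theorem exists_scalar_pow (hF : Fintype.card F = q ^ 2) (p : ℕ) [Fact p.Prime] [CharP F p] {d : ℕ} (hd : 3 ≤ d)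
    (h32 : ¬ (d = 3 ∧ q = 2)) [StarRing F] (hs : ∀ x : F, star x = x ^ q) (A : Matrix (Fin d) (Fin d) F)
    (hA : Aᴴ * A = 1) : ∃ n, 0 < n ∧ Good p q d n ∧ ∃ c : F, A ^ n = c • (1 : Matrix (Fin d) (Fin d) F) := by
  classical
  have hp : p.Prime := Fact.out
  obtain ⟨-, -, hq1, -⟩ := Forms59.card_sq_facts hF
  have hq : 2 ≤ q := hq1
  obtain ⟨f, hqf⟩ : ∃ f, q = p ^ f := by
    obtain ⟨g, hpp, hg⟩ := FiniteField.card F p
    obtain ⟨f, -, hf⟩ := (Nat.dvd_prime_pow hpp).1 (hg ▸ hF ▸ dvd_pow_self q two_ne_zero)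
    exact ⟨f, hf⟩
  have hpq : p ≤ q := by
    rcases Nat.eq_zero_or_pos f with rfl | hf
    · rw [pow_zero] at hqf; omega
    · exact hqf ▸ Nat.le_self_pow hf.ne' p
  let Kc := AlgebraicClosure F
  haveI : CharP Kc p := charP_of_injective_algebraMap (algebraMap F Kc).injective p
  let φ : Kc →+* Kc := iterateFrobenius Kc p f
  have hφ : ∀ x, φ x = x ^ q := fun x => by rw [hqf]; exact iterateFrobenius_def ..
  have hinj : Function.Injective (psi q : Kc → Kc) := fun x y h => φ.injective (by rw [hφ, hφ]; exact inv_injective h)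
  set P := A.charpoly.map (algebraMap F Kc) with hP
  have hPmonic : P.Monic := A.charpoly_monic.map _
  set S := P.roots with hS
  have hScard : S.card = d := by
    rw [hS, ← (IsAlgClosed.splits P).natDegree_eq_card_roots, hP, natDegree_map, Matrix.charpoly_natDegree_eq_dim,
      Fintype.card_fin]
  have hu : IsUnit A := IsUnit.of_mul_eq_one_right Aᴴ hA
  have hc0 : A.charpoly.coeff 0 ≠ 0 := GLSemi.charpoly_coeff_zero_ne hu
  have hS0 : (0 : Kc) ∉ S := by
    intro h0
    rw [hS, mem_roots hPmonic.ne_zero, IsRoot, hP, eval_map, eval₂_at_zero, map_eq_zero] at h0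
    exact hc0 h0
  have hSpsi : S.map (psi q) = S := by
    have h1 := GLSemi.dual_charpoly_of_unitary (M := A) hA
    rw [GLSemi.dual] at h1
    have h2 := congrArg (fun R => (R.map (algebraMap F Kc)).roots) h1
    simp only [Polynomial.map_mul, map_C, Polynomial.map_map] at h2
    have hcomp : (algebraMap F Kc).comp (starRingEnd F) = φ.comp (algebraMap F Kc) := by
      refine RingHom.ext fun x => ?_
      rw [RingHom.comp_apply, RingHom.comp_apply, hφ, starRingEnd_apply, hs, map_pow]
    rw [hcomp, ← Polynomial.map_map, reverse, ← reflect_map,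
      ← natDegree_map_eq_of_injective (algebraMap F Kc).injective A.charpoly, ← hP, ← reverse, ← hS,
      roots_C_mul _ (by rw [_root_.map_ne_zero]; exact inv_ne_zero ((_root_.map_ne_zero _).mpr hc0)),
      (IsAlgClosed.splits P.reverse).roots_map_of_injective φ.injective] at h2
    have h3 : P.reverse.roots = S.map (·⁻¹) := by
      have h4 := ClassOrder1.roots_smul_reverse_prod S hS0 1 one_ne_zero
      rwa [map_one, one_mul, hS, ← (IsAlgClosed.splits P).eq_prod_roots_of_monic hPmonic] at h4
    rw [h3, Multiset.map_map] at h2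
    refine Eq.trans (Multiset.map_congr rfl fun x _ => ?_) h2
    rw [Function.comp_apply, map_inv₀, hφ]
    rfl
  have hcinv : ∀ x, S.count (psi q x) = S.count x := fun x => by
    conv_lhs => rw [← hSpsi]
    exact Multiset.count_map_eq_count' (psi q) S hinj x
  set R := S.toFinset with hR
  have hR0 : ∀ x ∈ R, x ≠ 0 := fun x hx h => hS0 (h ▸ Multiset.mem_toFinset.mp hx)
  have hRst : ∀ x ∈ R, psi q x ∈ R := fun x hx =>
    Multiset.mem_toFinset.mpr (hSpsi ▸ Multiset.mem_map_of_mem _ (Multiset.mem_toFinset.mp hx))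
  obtain ⟨r, hr, hmax⟩ := Finset.exists_max_image R (fun x => S.count x)
    (Multiset.toFinset_nonempty.mpr fun h => by rw [h, Multiset.card_zero] at hScard; omega)
  set K := S.count r with hKdef
  have hK1 : 1 ≤ K := Multiset.one_le_count_iff_mem.mpr (Multiset.mem_toFinset.mp hr)
  have hcnt : ∀ x, S.count x ≤ K := fun x => by
    by_cases hx : x ∈ S
    · exact hmax x (Multiset.mem_toFinset.mpr hx)
    · rw [Multiset.count_eq_zero.mpr hx]; exact Nat.zero_le _
  set j := Nat.clog p K with hj
  have hKj : K ≤ p ^ j := Nat.le_pow_clog hp.one_lt K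
  have hjK : p ^ j ≤ q ^ (K - 1) := (Nat.pow_le_pow_right hp.pos (Nat.clog_le_of_le_pow (by
    have h := Nat.lt_pow_self hp.one_lt (n := K - 1)
    omega))).trans (Nat.pow_le_pow_left hpq _)
  have finish : ∀ (N : ℕ) (c : F), 0 < N → (∀ x ∈ S, x ^ N = algebraMap F Kc c) → Good p q d (N * p ^ j) →
      ∃ n, 0 < n ∧ Good p q d n ∧ ∃ c : F, A ^ n = c • (1 : Matrix (Fin d) (Fin d) F) := by
    intro N c hN hkill hgood
    refine ⟨N * p ^ j, Nat.mul_pos hN (pow_pos hp.pos _), hgood, c ^ p ^ j, ?_⟩
    rw [ClassOrder1.pow_eq_of_roots p A N j c hkill (fun x => (hcnt x).trans hKj), Algebra.algebraMap_eq_smul_one]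
  have hsum : ∑ x ∈ R, S.count x = d := by rw [hR, Multiset.toFinset_sum_count_eq, hScard]
  obtain ⟨O, hOR, hrO, hst, hkill, ⟨c, hc, hOc⟩, hconst⟩ := exists_orbit hq hinj hR0 hRst hr
  have hOK : ∀ x ∈ O, S.count x = K := hconst _ fun x _ => hcinv x
  set e := O.card with he
  have he1 : 1 ≤ e := Finset.card_pos.mpr ⟨r, hrO⟩
  have hOsum : ∑ x ∈ O, S.count x = e * K := by
    rw [Finset.sum_congr rfl hOK, Finset.sum_const, smul_eq_mul]
  have hsplit : ∑ x ∈ R \ O, S.count x + e * K = d := by rw [← hOsum, Finset.sum_sdiff hOR, hsum]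
  rcases (R \ O).eq_empty_or_nonempty with hemp | hne
  · -- one orbit
    rw [hemp, Finset.sum_empty, zero_add] at hsplit
    have hRO : ∀ x ∈ S, x ∈ O := fun x hx => Finset.sdiff_eq_empty_iff_subset.mp hemp (Multiset.mem_toFinset.mpr hx)
    obtain ⟨c0, hc0'⟩ := PSU3Spec.mem_range_of_pow (F := F) (x := c) (by
      have h1 : c ^ (q ^ 2 - 1) = 1 := by
        rw [show q ^ 2 - 1 = q ^ 2 - 1 ^ 2 by norm_num, Nat.sq_sub_sq, pow_mul, hc, one_pow]
      rw [hF, ← Nat.sub_add_cancel (Nat.one_le_pow 2 q (by omega)), pow_succ, h1, one_mul])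
    refine finish (torA q e) c0
      (Nat.div_pos (Nat.le_of_dvd (tor_pos hq he1) (succ_dvd_tor _ _)) (by omega))
      (fun x hx => by rw [hOc x (hRO x hx)]; exact hc0'.symm) (Or.inl ?_)
    rcases (show e = 1 ∨ 2 ≤ e by omega) with h1 | h2
    · have hKd : K = d := by rw [← hsplit, h1, one_mul]
      rw [h1, show torA q 1 = 1 by rw [torA, tor, if_pos odd_one, pow_one, Nat.div_self (by omega)], one_mul, hj, hKd]
      rcases (show d = 3 ∨ 4 ≤ d by omega) with h3 | h4
      · subst h3
        rw [clog_three hp, three]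
        have h5 : q * q = q ^ 2 := (sq q).symm
        have hp2 := hp.two_le
        split
        · next hp' =>
          have : q ≠ 2 := fun h => h32 ⟨rfl, h⟩
          have : 3 * 3 ≤ q * q := Nat.mul_le_mul (by omega) (by omega)
          simp only [show (3 - 1 : ℕ) = 2 from rfl]
          omega
        · have : 2 * q ≤ q * q := Nat.mul_le_mul_right q hq
          simp only [show (3 - 1 : ℕ) = 2 from rfl]
          omega
      · exact ((clog_le hp h4).trans (Nat.pow_le_pow_left hpq _)).trans (pow_le_base hq hd le_rfl)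
    · rcases (show K = 1 ∨ 2 ≤ K by omega) with hK | hK
      · rw [hj, hK, Nat.clog_one_right, pow_zero, mul_one, show e = d by rw [← hsplit, hK, mul_one]]
        exact torA_single hq hd
      · refine ((Nat.mul_le_mul (torA_le hq he1) hjK).trans_eq (pow_add q _ _).symm).trans (pow_le_base hq hd ?_)
        have hek : e + K ≤ e * K := by nlinarith
        omega
  · -- at least two orbits
    obtain ⟨r2, hr2⟩ := hne
    obtain ⟨O2, hO2R, hr2O, hst2, hkill2, -, hconst2⟩ := exists_orbit hq hinj
      (fun x hx => hR0 x (Finset.mem_sdiff.mp hx).1) hst hr2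
    set e2 := O2.card with he2
    have he21 : 1 ≤ e2 := Finset.card_pos.mpr ⟨r2, hr2O⟩
    set K2 := S.count r2 with hK2def
    have hK21 : 1 ≤ K2 := Multiset.one_le_count_iff_mem.mpr (Multiset.mem_toFinset.mp (Finset.mem_sdiff.mp hr2).1)
    have hO2K : ∀ x ∈ O2, S.count x = K2 := hconst2 _ fun x _ => hcinv x
    have hsplit2 : ∑ x ∈ (R \ O) \ O2, S.count x + e2 * K2 + e * K = d := by
      rw [← hsplit, ← Finset.sum_sdiff hO2R, Finset.sum_congr rfl hO2K, Finset.sum_const, smul_eq_mul]
    have hge : ((R \ O) \ O2).card ≤ ∑ x ∈ (R \ O) \ O2, S.count x := by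
      rw [Finset.card_eq_sum_ones]
      exact Finset.sum_le_sum fun x hx => Multiset.one_le_count_iff_mem.mpr
        (Multiset.mem_toFinset.mp (Finset.mem_sdiff.mp (Finset.mem_sdiff.mp hx).1).1)
    have hKe : K - 1 ≤ (K - 1) * e := Nat.le_mul_of_pos_right _ he1
    have hKe2 : (K - 1) * e + e = e * K := by rw [← Nat.succ_mul, mul_comm]; congr 1; omega
    obtain ⟨M, hM0, hMd, hMk, hMle⟩ := exists_exp hq hinj (R \ O) ⟨r2, hr2⟩
      (fun x hx => hR0 x (Finset.mem_sdiff.mp hx).1) hst
    have hkillN : ∀ N, q + 1 ∣ N → (∀ x ∈ R \ O, x ^ N = 1) → (∀ x ∈ O, x ^ N = 1) →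
        ∀ x ∈ S, x ^ N = algebraMap F Kc 1 := by
      intro N _ h1 h2 x hx
      rw [map_one]
      by_cases hxO : x ∈ O
      · exact h2 x hxO
      · exact h1 x (Finset.mem_sdiff.mpr ⟨Multiset.mem_toFinset.mpr hx, hxO⟩)
    rcases ((R \ O) \ O2).eq_empty_or_nonempty with hemp2 | hne2
    · rw [hemp2, Finset.sum_empty, zero_add] at hsplit2
      have hsub : R \ O ⊆ O2 := Finset.sdiff_eq_empty_iff_subset.mp hemp2
      rcases (show K = 1 ∨ 2 ≤ K by omega) with hK | hK
      · have hK2 : K2 = 1 := le_antisymm (hK ▸ hcnt r2) hK21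
        have hd' : e2 + e = d := by rw [hK, hK2, mul_one, mul_one] at hsplit2; exact hsplit2
        have htor : tor q e2 ∣ tor q e2 * torA q e := dvd_mul_right _ _
        have hdvd : tor q e ∣ tor q e2 * torA q e := by
          rw [← torA_mul q e, ← torA_mul q e2]
          exact ⟨torA q e2, by ring⟩
        refine finish (tor q e2 * torA q e) 1 (Nat.mul_pos (tor_pos hq he21)
          (Nat.div_pos (Nat.le_of_dvd (tor_pos hq he1) (succ_dvd_tor _ _)) (by omega))) ?_ ?_
        · refine hkillN _ ((succ_dvd_tor q e2).trans htor) (fun x hx => ?_) (fun x hx => ?_)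
          · obtain ⟨k, hk⟩ := htor; rw [hk, pow_mul, hkill2 x (hsub hx), one_pow]
          · obtain ⟨k, hk⟩ := hdvd; rw [hk, pow_mul, hkill x hx, one_pow]
        · rw [hj, hK, Nat.clog_one_right, pow_zero, mul_one]
          rcases two_orbits hq he21 he1 (by omega) with h | h
          · rw [hd'] at h; exact Or.inl h
          · rw [hd'] at h; exact Or.inr (Or.inl h)
      · rcases (show 2 ≤ e ∨ (e = 1 ∧ 2 ≤ K2) ∨ (e = 1 ∧ K2 = 1) by omega) with h | h | h
        all_goals (try
          (refine finish (M * torA q e) 1 (Nat.mul_pos hM0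
              (Nat.div_pos (Nat.le_of_dvd (tor_pos hq he1) (succ_dvd_tor _ _)) (by omega))) ?_ (Or.inl ?_)
           · refine hkillN _ (hMd.mul_right _) (fun x hx => by rw [pow_mul, hMk x hx, one_pow]) (fun x hx => ?_)
             obtain ⟨k, rfl⟩ := hMd
             rw [show (q + 1) * k * torA q e = torA q e * (q + 1) * k by ring, torA_mul, pow_mul, hkill x hx, one_pow]
           · have hcard2 : (R \ O).card = e2 := le_antisymm (Finset.card_le_card hsub) (Finset.card_le_card hO2R)
             refine le_trans (Nat.mul_le_mul (Nat.mul_le_mul hMle (torA_le hq he1)) hjK) ?_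
             rw [mul_assoc, mul_assoc, ← pow_add, ← pow_add, hcard2]
             refine succ_mul_le_base hq hd ?_
             first
               | (have h1 : 2 * (K - 1) ≤ (K - 1) * e := by rw [mul_comm 2]; exact Nat.mul_le_mul_left _ h
                  have h2 : e2 ≤ e2 * K2 := Nat.le_mul_of_pos_right _ hK21
                  omega)
               | (have h2 : e2 * 2 ≤ e2 * K2 := Nat.mul_le_mul_left _ h.2
                  omega)))
        obtain ⟨h1, h2⟩ := h
        rw [h1, h2, one_mul, mul_one] at hsplit2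
        refine finish (tor q e2) 1 (tor_pos hq he21) (hkillN _ (succ_dvd_tor _ _) (fun x hx => hkill2 x (hsub hx))
          fun x hx => ?_) ?_
        · obtain ⟨k, hk⟩ := succ_dvd_tor q e2
          rw [hk, pow_mul, show q + 1 = tor q e by rw [h1, tor, if_pos odd_one, pow_one], hkill x hx, one_pow]
        · rcases repeated hq hp hpq hK he21 with h | h | h <;> rw [show K + e2 = d by omega] at h
          · exact Or.inl h
          · exact Or.inr (Or.inr (Or.inl h))
          · exact Or.inr (Or.inr (Or.inr h))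
    · obtain ⟨M', hM'0, hM'd, hM'k, hM'le⟩ := exists_exp hq hinj ((R \ O) \ O2) hne2
        (fun x hx => hR0 x (Finset.mem_sdiff.mp (Finset.mem_sdiff.mp hx).1).1) hst2
      obtain ⟨k, hk⟩ := hM'd
      have hpos : ∀ m, 1 ≤ m → 0 < torA q m := fun m hm =>
        Nat.div_pos (Nat.le_of_dvd (tor_pos hq hm) (succ_dvd_tor _ _)) (by omega)
      refine finish (M' * torA q e2 * torA q e) 1 (Nat.mul_pos (Nat.mul_pos hM'0 (hpos _ he21)) (hpos _ he1)) ?_ (Or.inl ?_)
      · refine hkillN _ (((Dvd.intro k hk.symm).mul_right _).mul_right _) (fun x hx => ?_) (fun x hx => ?_)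
        · by_cases hx2 : x ∈ O2
          · rw [show M' * torA q e2 * torA q e = torA q e2 * (q + 1) * (k * torA q e) by rw [hk]; ring, torA_mul,
              pow_mul, hkill2 x hx2, one_pow]
          · rw [mul_assoc, pow_mul, hM'k x (Finset.mem_sdiff.mpr ⟨hx, hx2⟩), one_pow]
        · rw [show M' * torA q e2 * torA q e = torA q e * (q + 1) * (k * torA q e2) by rw [hk]; ring, torA_mul,
            pow_mul, hkill x hx, one_pow]
      · have h3 : 1 ≤ ((R \ O) \ O2).card := Finset.card_pos.mpr hne2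
        have h4 : e2 ≤ e2 * K2 := Nat.le_mul_of_pos_right _ hK21
        refine le_trans (Nat.mul_le_mul (Nat.mul_le_mul (Nat.mul_le_mul hM'le (torA_le hq he21)) (torA_le hq he1)) hjK) ?_
        rw [mul_assoc, mul_assoc, mul_assoc, ← pow_add, ← pow_add, ← pow_add]
        exact succ_mul_le_base hq hd (by omega)

end Cfsg.Agent.PGUOrder1
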