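/-
Elements of large order in projective unitary groups.
-/
import Cfsg.Agent.KnownSimple58.UnitaryElements
import Cfsg.Agent.Lib.Unitary.Outer

set_option autoImplicit false

namespace Cfsg.Agent.PGUOrder1

open Matrix

variable {F : Type*} [Field F] [Fintype F] {q : ℕ} [StarRing F]

/-- An invertible matrix preserving an invertible sesquilinear form. -/
def Pres {n : ℕ} (A M : Matrix (Fin n) (Fin n) F) : Prop := IsUnit A ∧ IsUnit M ∧ Aᴴ * M * A = M

/-- A matrix of order `q^n + 1` for odd `n`. -/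
theorem exists_singer (hK : Fintype.card F = q ^ 2) (hs : ∀ x : F, star x = x ^ q) {n : ℕ} (hod : Odd n) :
    ∃ A M : Matrix (Fin n) (Fin n) F, Pres A M ∧ ∀ j, A ^ j = 1 → q ^ n + 1 ∣ j := by
  classical
  obtain ⟨-, -, hq1, -⟩ := Forms59.card_sq_facts hK
  haveI : Fact (Nat.Prime (ringChar F)) := ⟨CharP.char_is_prime F _⟩
  haveI : NeZero n := ⟨by rintro rfl; simp at hod⟩
  let K := FiniteField.Extension F (ringChar F) n
  haveI : Fintype K := Fintype.ofFinite K
  have hKc : Fintype.card K = (q ^ n) ^ 2 := by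
    rw [← Nat.card_eq_fintype_card, FiniteField.natCard_extension, Nat.card_eq_fintype_card, hK, ← pow_mul,
      ← pow_mul, mul_comm]
  obtain ⟨f, hf0⟩ : ∃ f, q = ringChar F ^ f := by
    obtain ⟨g, -, hg⟩ := FiniteField.card F (ringChar F)
    have hdvd : q ∣ ringChar F ^ (g : ℕ) := by rw [← hg, hK]; exact dvd_pow_self q two_ne_zero
    obtain ⟨f, -, hf⟩ := (Nat.dvd_prime_pow (Fact.out : (ringChar F).Prime)).1 hdvd
    exact ⟨f, hf⟩
  haveI : CharP K (ringChar F) := charP_of_injective_algebraMap (algebraMap F K).injective _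
  let θ : K →+* K := iterateFrobenius K (ringChar F) (f * n)
  have hθ : ∀ x : K, θ x = x ^ q ^ n := fun x => by rw [hf0, ← pow_mul]; rfl
  have hθF : ∀ c : F, θ (algebraMap F K c) = algebraMap F K (c ^ q) := by
    intro c
    rw [hθ, ← map_pow]
    congr 1
    obtain ⟨r, rfl⟩ := hod
    rw [pow_succ, pow_mul, pow_mul, ← hK, FiniteField.pow_card_pow]
  have hθb : Function.Surjective θ := by
    intro x
    refine ⟨θ x, ?_⟩
    rw [hθ, hθ, ← pow_mul, ← sq, ← hKc, FiniteField.pow_card]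
  obtain ⟨t, ht⟩ := IsCyclic.exists_generator (α := Kˣ)
  have hqn : 1 < q ^ n := Nat.one_lt_pow (NeZero.ne n) hq1
  have hto : orderOf t = (q ^ n + 1) * (q ^ n - 1) := by
    rw [orderOf_eq_card_of_forall_mem_zpowers ht, Nat.card_units, Nat.card_eq_fintype_card, hKc,
      ← Nat.sq_sub_sq, one_pow]
  set w := t ^ (q ^ n - 1) with hw
  have hwo : orderOf w = q ^ n + 1 := by
    rw [hw, orderOf_pow' t (by omega), hto, Nat.gcd_eq_right (Dvd.intro_left _ rfl),
      Nat.mul_div_cancel _ (by omega)]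
  let b : Module.Basis (Fin n) F K := Module.finBasisOfFinrankEq F K (FiniteField.finrank_extension F (ringChar F) n)
  set A : Matrix (Fin n) (Fin n) F := Algebra.leftMulMatrix b (w : K) with hA
  set M : Matrix (Fin n) (Fin n) F := Matrix.of fun i j => Algebra.trace F K (θ (b i) * b j) with hM
  have hcol : ∀ i, ∑ k, A k i • b k = (w : K) * b i := fun i => by
    conv_rhs => rw [← b.sum_repr ((w : K) * b i)]
    exact Finset.sum_congr rfl fun k _ => by rw [hA, Algebra.leftMulMatrix_eq_repr_mul]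
  have hθw : θ (w : K) * (w : K) = 1 := by
    rw [hθ, ← pow_succ, ← Units.val_pow_eq_pow_val, orderOf_dvd_iff_pow_eq_one.mp, Units.val_one]
    rw [hwo]
  have hinv : Aᴴ * M * A = M := by
    ext i j
    have e1 : θ ((w : K) * b i) * ((w : K) * b j) = ∑ k, ∑ l, (A k i ^ q * A l j) • (θ (b k) * b l) := by
      rw [← hcol i, ← hcol j, map_sum, Finset.sum_mul_sum]
      refine Finset.sum_congr rfl fun k _ => Finset.sum_congr rfl fun l _ => ?_
      rw [Algebra.smul_def, Algebra.smul_def, Algebra.smul_def, map_mul θ, hθF, map_mul]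
      ring
    have e2 : θ ((w : K) * b i) * ((w : K) * b j) = θ (b i) * b j := by
      rw [map_mul]
      linear_combination (θ (b i) * b j) * hθw
    have h := congrArg (Algebra.trace F K) (e1.symm.trans e2)
    simp only [map_sum, map_smul, smul_eq_mul] at h
    simp only [Matrix.mul_apply, Finset.sum_mul, Matrix.conjTranspose_apply, hs, hM, Matrix.of_apply]
    rw [Finset.sum_comm, ← h]
    exact Finset.sum_congr rfl fun k _ => Finset.sum_congr rfl fun l _ => by ring
  have hMu : IsUnit M := by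
    rw [← Matrix.mulVec_injective_iff_isUnit]
    intro u v huv
    rw [← sub_eq_zero]
    have h0 : M *ᵥ (u - v) = 0 := by rw [Matrix.mulVec_sub, huv, sub_self]
    set d := u - v
    set y : K := ∑ j, d j • b j with hy
    have hy0 : ∀ i, Algebra.trace F K (θ (b i) * y) = 0 := by
      intro i
      have := congrFun h0 i
      simp only [hM, Matrix.mulVec, dotProduct, Matrix.of_apply, Pi.zero_apply] at this
      rw [hy, Finset.mul_sum, map_sum, ← this]
      exact Finset.sum_congr rfl fun j _ => by rw [mul_smul_comm, map_smul, smul_eq_mul, mul_comm]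
    have hyz : y = 0 := by
      refine (traceForm_nondegenerate F K).1 y fun z => ?_
      obtain ⟨x, rfl⟩ := hθb z
      rw [Algebra.traceForm_apply, ← b.sum_repr x, map_sum, Finset.mul_sum, map_sum]
      refine Finset.sum_eq_zero fun i _ => ?_
      rw [Algebra.smul_def, map_mul θ, hθF, ← Algebra.smul_def, mul_smul_comm, map_smul, mul_comm y, hy0, smul_zero]
    exact funext fun i => Fintype.linearIndependent_iff.mp b.linearIndependent d hyz i
  refine ⟨A, M, ⟨?_, hMu, hinv⟩, fun j hj => ?_⟩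
  · exact w.isUnit.map (Algebra.leftMulMatrix b)
  · rw [hA, ← map_pow, ← map_one (Algebra.leftMulMatrix b)] at hj
    rw [← hwo]
    exact orderOf_dvd_of_pow_eq_one (Units.ext (by
      rw [Units.val_pow_eq_pow_val, Units.val_one]; exact Algebra.leftMulMatrix_injective b hj))

/-- A matrix of order `q^(2m) - 1` on a hyperbolic space of dimension `2m`. -/
theorem exists_hyperbolic (hK : Fintype.card F = q ^ 2) {m : ℕ} (hm : 1 ≤ m) :
    ∃ A M : Matrix (Fin (m + m)) (Fin (m + m)) F, Pres A M ∧ ∀ j, A ^ j = 1 → q ^ (m + m) - 1 ∣ j := by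
  classical
  haveI : Fact (Nat.Prime (ringChar F)) := ⟨CharP.char_is_prime F _⟩
  haveI : NeZero m := ⟨by omega⟩
  let K := FiniteField.Extension F (ringChar F) m
  haveI : Fintype K := Fintype.ofFinite K
  have hKc : Fintype.card K = q ^ (m + m) := by
    rw [← Nat.card_eq_fintype_card, FiniteField.natCard_extension, Nat.card_eq_fintype_card, hK, ← pow_mul]
    ring_nf
  obtain ⟨t, ht⟩ := IsCyclic.exists_generator (α := Kˣ)
  have hto : orderOf t = q ^ (m + m) - 1 := by
    rw [orderOf_eq_card_of_forall_mem_zpowers ht, Nat.card_units, Nat.card_eq_fintype_card, hKc]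
  obtain ⟨φ, hφ, -⟩ := KS58.exists_units_hom (F := F) (A := K) m
    (FiniteField.finrank_extension F (ringChar F) m).le
  set W : Matrix (Fin m) (Fin m) F := (φ t : Matrix (Fin m) (Fin m) F) with hW
  set Wi : Matrix (Fin m) (Fin m) F := (((φ t)⁻¹ : GL (Fin m) F) : Matrix (Fin m) (Fin m) F) with hWi
  have hWW : Wi * W = 1 := Units.inv_mul _
  have hWW' : W * Wi = 1 := Units.mul_inv _
  let T := Matrix.reindexAlgEquiv F F (finSumFinEquiv : Fin m ⊕ Fin m ≃ Fin (m + m))
  set A0 : Matrix (Fin m ⊕ Fin m) (Fin m ⊕ Fin m) F := Matrix.fromBlocks W 0 0 Wiᴴ with hA0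
  set M0 : Matrix (Fin m ⊕ Fin m) (Fin m ⊕ Fin m) F := Matrix.fromBlocks 0 1 1 0 with hM0
  have hTconj : ∀ X, (T X)ᴴ = T Xᴴ := fun X => rfl
  refine ⟨T A0, T M0, ⟨?_, ?_, ?_⟩, fun j hj => ?_⟩
  · refine IsUnit.map T (IsUnit.of_mul_eq_one (Matrix.fromBlocks Wi 0 0 Wᴴ) ?_)
    rw [hA0, Matrix.fromBlocks_multiply]
    simp [hWW', ← Matrix.conjTranspose_mul, Matrix.fromBlocks_one]
  · refine IsUnit.map T (IsUnit.of_mul_eq_one M0 ?_)
    rw [hM0, Matrix.fromBlocks_multiply]
    simp [Matrix.fromBlocks_one]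
  · rw [hTconj, ← map_mul, ← map_mul]
    congr 1
    rw [hA0, hM0, Matrix.fromBlocks_conjTranspose, Matrix.fromBlocks_multiply, Matrix.fromBlocks_multiply]
    simp [hWW, ← Matrix.conjTranspose_mul]
  · rw [← map_pow, map_eq_one_iff T T.injective] at hj
    have hblk : ∀ i, A0 ^ i = Matrix.fromBlocks (W ^ i) 0 0 (Wiᴴ ^ i) := by
      intro i
      induction i with
      | zero => simp [Matrix.fromBlocks_one]
      | succ i ih => rw [pow_succ, ih, hA0, Matrix.fromBlocks_multiply, pow_succ, pow_succ]; simp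
    rw [hblk, ← Matrix.fromBlocks_one, Matrix.fromBlocks_inj] at hj
    rw [← hto, ← orderOf_injective φ hφ]
    exact orderOf_dvd_of_pow_eq_one (Units.ext (by rw [Units.val_pow_eq_pow_val, Units.val_one]; exact hj.1))

theorem pres_one {n : ℕ} : Pres (1 : Matrix (Fin n) (Fin n) F) 1 := ⟨isUnit_one, isUnit_one, by simp⟩

/-- A transvection. -/
theorem exists_unipotent_two (hK : Fintype.card F = q ^ 2) (hs : ∀ x : F, star x = x ^ q) (p : ℕ) [CharP F p] :
    ∃ A M : Matrix (Fin 2) (Fin 2) F, Pres A M ∧ ∀ j (s : F), A ^ j = s • 1 → s = 1 ∧ p ∣ j := by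
  obtain ⟨-, -, -, θ, hθ⟩ := Forms59.card_sq_facts hK
  have hθ' : star θ ≠ θ := by rw [hs]; exact hθ
  set c := θ - star θ with hc
  have hc0 : c ≠ 0 := sub_ne_zero.mpr hθ'.symm
  have hcs : star c = -c := by rw [hc, star_sub, star_star, neg_sub]
  have hpow : ∀ j : ℕ, (!![1, c; 0, 1] : Matrix (Fin 2) (Fin 2) F) ^ j = !![1, (j : F) * c; 0, 1] := by
    intro j
    induction j with
    | zero => simp [Matrix.one_fin_two]
    | succ j ih =>
      rw [pow_succ, ih, Matrix.mul_fin_two]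
      ext a b; fin_cases a <;> fin_cases b <;> simp <;> ring
  refine ⟨!![1, c; 0, 1], !![0, 1; 1, 0], ⟨?_, ?_, ?_⟩, fun j s h => ?_⟩
  · rw [Matrix.isUnit_iff_isUnit_det, Matrix.det_fin_two_of]; simp
  · rw [Matrix.isUnit_iff_isUnit_det, Matrix.det_fin_two_of]; simp
  · ext a b
    fin_cases a <;> fin_cases b <;> simp [Matrix.mul_apply, Fin.sum_univ_two, hcs]
  · rw [hpow] at h
    have h1 : s = 1 := by simpa using (congrFun (congrFun h 0) 0).symm
    have h2 : (j : F) * c = 0 := by simpa using congrFun (congrFun h 0) 1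
    exact ⟨h1, (CharP.cast_eq_zero_iff F p j).mp ((mul_eq_zero.mp h2).resolve_right hc0)⟩

/-- A regular unipotent `3 × 3` matrix in characteristic two. -/
theorem exists_unipotent_three (hK : Fintype.card F = q ^ 2) (hs : ∀ x : F, star x = x ^ q) [CharP F 2] :
    ∃ A M : Matrix (Fin 3) (Fin 3) F, Pres A M ∧ ∀ j (s : F), A ^ j = s • 1 → s = 1 ∧ 4 ∣ j := by
  obtain ⟨-, -, -, θ, hθ⟩ := Forms59.card_sq_facts hK
  have h2 : (2 : F) = 0 := by exact_mod_cast CharP.cast_eq_zero F 2
  have hT : θ + star θ ≠ 0 := fun h => hθ (by rw [← hs]; linear_combination h - θ * h2)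
  set b := θ / (θ + star θ) with hb
  have hbb : b + star b = 1 := by
    rw [hb, star_div₀, star_add, star_star, add_comm (star θ) θ, ← add_div, div_self hT]
  let A : Matrix (Fin 3) (Fin 3) F := !![1, 1, b; 0, 1, 1; 0, 0, 1]
  have hA2 : A ^ 2 = !![1, 0, 1; 0, 1, 0; 0, 0, 1] := by
    rw [pow_two]
    ext i j
    fin_cases i <;> fin_cases j <;> simp [A, Matrix.mul_apply, Fin.sum_univ_three] <;>
      first
      | linear_combination h2
      | linear_combination b * h2
      | linear_combination (b + 1) * h2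
  have hA3 : A ^ 3 = !![1, 1, b + 1; 0, 1, 1; 0, 0, 1] := by
    rw [pow_succ, hA2]
    ext i j
    fin_cases i <;> fin_cases j <;> simp [A, Matrix.mul_apply, Fin.sum_univ_three]
  have hA4 : A ^ 4 = 1 := by
    rw [show (4 : ℕ) = 2 + 2 from rfl, pow_add, hA2]
    ext i j
    fin_cases i <;> fin_cases j <;> simp [Matrix.mul_apply, Fin.sum_univ_three] <;>
      first | linear_combination h2
  refine ⟨A, !![0, 0, 1; 0, 1, 0; 1, 0, 0], ⟨?_, ?_, ?_⟩, fun j s h => ?_⟩
  · rw [Matrix.isUnit_iff_isUnit_det, Matrix.det_fin_three]; simp [A]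
  · rw [Matrix.isUnit_iff_isUnit_det, Matrix.det_fin_three]; simp
  · ext i j
    fin_cases i <;> fin_cases j <;> simp [A, Matrix.mul_apply, Fin.sum_univ_three] <;>
      first
      | linear_combination h2
      | linear_combination hbb + h2
  · rw [pow_eq_pow_mod j hA4] at h
    have hs1 : s = 1 := by
      rcases (show j % 4 = 0 ∨ j % 4 = 1 ∨ j % 4 = 2 ∨ j % 4 = 3 by omega) with e | e | e | e <;> rw [e] at h
      · simpa using (congrFun (congrFun h 0) 0).symm
      · simpa [A] using (congrFun (congrFun h 0) 0).symm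
      · rw [hA2] at h; simpa using (congrFun (congrFun h 0) 0).symm
      · rw [hA3] at h; simpa using (congrFun (congrFun h 0) 0).symm
    refine ⟨hs1, Nat.dvd_of_mod_eq_zero ?_⟩
    rcases (show j % 4 = 0 ∨ j % 4 = 1 ∨ j % 4 = 2 ∨ j % 4 = 3 by omega) with e | e | e | e <;> rw [e] at h
    · exact e
    · exact absurd (congrFun (congrFun h 0) 1) (by simp [A])
    · rw [hA2] at h; exact absurd (congrFun (congrFun h 0) 2) (by simp)
    · rw [hA3] at h; exact absurd (congrFun (congrFun h 0) 1) (by simp)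

/-- An element of the projective unitary group from two blocks. -/
theorem exists_elt (hK : Fintype.card F = q ^ 2) (hs : ∀ x : F, star x = x ^ q) {n m d : ℕ} (hd : n + m = d)
    {A₁ M₁ : Matrix (Fin n) (Fin n) F} {A₂ M₂ : Matrix (Fin m) (Fin m) F} (h₁ : Pres A₁ M₁) (h₂ : Pres A₂ M₂)
    {N : ℕ} (hN : ∀ j (s : F), A₁ ^ j = s • 1 → A₂ ^ j = s • 1 → N ∣ j) :
    ∃ g : (↥(Cfsg.GU d F q) ⧸ Subgroup.center ↥(Cfsg.GU d F q)), N ∣ orderOf g := by
  classical
  subst hd
  let T := Matrix.reindexAlgEquiv F F (finSumFinEquiv : Fin n ⊕ Fin m ≃ Fin (n + m))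
  set A : Matrix (Fin n ⊕ Fin m) (Fin n ⊕ Fin m) F := Matrix.fromBlocks A₁ 0 0 A₂ with hA
  set M : Matrix (Fin n ⊕ Fin m) (Fin n ⊕ Fin m) F := Matrix.fromBlocks M₁ 0 0 M₂ with hM
  have hdiag : ∀ {X : Matrix (Fin n) (Fin n) F} {Y : Matrix (Fin m) (Fin m) F}, IsUnit X → IsUnit Y →
      IsUnit (Matrix.fromBlocks X 0 0 Y) := fun hX hY => by
    rw [Matrix.isUnit_iff_isUnit_det, Matrix.det_fromBlocks_zero₂₁]
    exact ((Matrix.isUnit_iff_isUnit_det _).mp hX).mul ((Matrix.isUnit_iff_isUnit_det _).mp hY)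
  have hTconj : ∀ X, (T X)ᴴ = T Xᴴ := fun X => rfl
  have hinv : (T A)ᴴ * T M * T A = T M := by
    rw [hTconj, ← map_mul, ← map_mul]
    congr 1
    rw [hA, hM, Matrix.fromBlocks_conjTranspose, Matrix.fromBlocks_multiply, Matrix.fromBlocks_multiply]
    simp [h₁.2.2, h₂.2.2]
  have hAu : IsUnit (T A) := (hdiag h₁.1 h₂.1).map T
  obtain ⟨C, hC⟩ := KS58.SUEl.exists_unitary_conj hK hs (T A) (T M) hAu ((hdiag h₁.2.1 h₂.2.1).map T) hinv
  let G : GL (Fin (n + m)) F := C * hAu.unit * C⁻¹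
  have hG : G ∈ Cfsg.GU (n + m) F q := (Forms59.mem_GU_iff_conjTranspose hs G).mpr hC
  let x : ↥(Cfsg.GU (n + m) F q) := ⟨G, hG⟩
  refine ⟨QuotientGroup.mk x, ?_⟩
  set j := orderOf (QuotientGroup.mk x : ↥(Cfsg.GU (n + m) F q) ⧸ Subgroup.center ↥(Cfsg.GU (n + m) F q)) with hj
  have h1 : x ^ j ∈ Subgroup.center ↥(Cfsg.GU (n + m) F q) := by
    rw [← QuotientGroup.eq_one_iff, QuotientGroup.mk_pow]
    exact pow_orderOf_eq_one _
  obtain ⟨s, hs'⟩ := (Unitary.mem_center_GU_iff hK).mp h1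
  have h2 : ((G ^ j : GL (Fin (n + m)) F) : Matrix (Fin (n + m)) (Fin (n + m)) F) = s • 1 := by
    refine Matrix.ext_of_mulVec_single fun i => ?_
    rw [Matrix.smul_mulVec, Matrix.one_mulVec]
    exact hs' (Pi.single i 1)
  have h3 : (C : Matrix (Fin (n + m)) (Fin (n + m)) F) * (T A) ^ j *
      ((C⁻¹ : GL (Fin (n + m)) F) : Matrix (Fin (n + m)) (Fin (n + m)) F) = s • 1 := by
    rw [← KS58.SUEl.conj_pow, ← h2, Units.val_pow_eq_pow_val]
    rfl
  have h4 : (T A) ^ j = s • 1 := by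
    have := congrArg (fun X => ((C⁻¹ : GL (Fin (n + m)) F) : Matrix (Fin (n + m)) (Fin (n + m)) F) * X *
      (C : Matrix (Fin (n + m)) (Fin (n + m)) F)) h3
    simpa [mul_assoc] using this
  rw [← map_pow, ← map_one T, ← map_smul] at h4
  have h5 := T.injective h4
  have hblk : ∀ i, A ^ i = Matrix.fromBlocks (A₁ ^ i) 0 0 (A₂ ^ i) := by
    intro i
    induction i with
    | zero => simp [Matrix.fromBlocks_one]
    | succ i ih => rw [pow_succ, ih, hA, Matrix.fromBlocks_multiply, pow_succ, pow_succ]; simp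
  rw [hblk, ← Matrix.fromBlocks_one, Matrix.fromBlocks_smul, Matrix.fromBlocks_inj] at h5
  exact hN j s h5.1 h5.2.2.2

end Cfsg.Agent.PGUOrder1
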